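import Cfsg.Agent.Golay.Loop
import Cfsg.Agent.Mathieu.Code
import Cfsg.Agent.Eq.Def_Spor_Mathieu
import Cfsg.Prelude.Def_Spor_Mathieu
import Mathlib.GroupTheory.SemidirectProduct
import Mathlib.GroupTheory.QuotientGroup.Basic

/-!
The standard automorphisms of the Parker loop over `M23`, modulo the central diagonal automorphism at the
fixed point: a non-split extension of `M23` by the cocode module of dimension 11.
-/

set_option autoImplicit false

open scoped Pointwise

namespace CfsgLib.Golay.CocodeExtension

open Cfsg CfsgLib.Golay.Loop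

/-- An element of `M23` as an element of `M24`. -/
def up (σ : ↥Spor.M23) : ↥M24 := ⟨σ.1, σ.2.1⟩

theorem up_one : up 1 = 1 := rfl

theorem up_mul (σ τ : ↥Spor.M23) : up (σ * τ) = up σ * up τ := rfl

theorem up_inv (σ : ↥Spor.M23) : up σ⁻¹ = (up σ)⁻¹ := rfl

theorem fix_none (σ : ↥Spor.M23) : (σ : Equiv.Perm GolayPt) none = none := σ.2.2

/-- Functions on the code, written multiplicatively. -/
abbrev Fn : Type := Multiplicative (V → ZMod 2)

/-- Translation of functions on the code. -/
def transl : ↥Spor.M23 →* MulAut Fn where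
  toFun σ :=
    { toFun := fun f => Multiplicative.ofAdd fun v => f.toAdd (act (up σ⁻¹) v)
      invFun := fun f => Multiplicative.ofAdd fun v => f.toAdd (act (up σ) v)
      left_inv := fun f => by
        show Multiplicative.ofAdd (fun v => f.toAdd (act (up σ⁻¹) (act (up σ) v))) = f
        simp only [← act_mul, ← up_mul, inv_mul_cancel, up_one, act_one]
        exact ofAdd_toAdd f
      right_inv := fun f => by
        show Multiplicative.ofAdd (fun v => f.toAdd (act (up σ) (act (up σ⁻¹) v))) = f
        simp only [← act_mul, ← up_mul, mul_inv_cancel, up_one, act_one]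
        exact ofAdd_toAdd f
      map_mul' := fun f g => rfl }
  map_one' := MulEquiv.ext fun f => by
    show Multiplicative.ofAdd (fun v => f.toAdd (act (up 1⁻¹) v)) = f
    simp only [inv_one, up_one, act_one]
    exact ofAdd_toAdd f
  map_mul' σ τ := MulEquiv.ext fun f => by
    show Multiplicative.ofAdd (fun v => f.toAdd (act (up (σ * τ)⁻¹) v)) =
      Multiplicative.ofAdd (fun v => f.toAdd (act (up τ⁻¹) (act (up σ⁻¹) v)))
    simp only [mul_inv_rev, up_mul, act_mul]

/-- The ambient group of pairs. -/
abbrev Pairs : Type := Fn ⋊[transl] ↥Spor.M23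

/-- The function of a pair, evaluated. -/
abbrev val (e : Pairs) (v : V) : ZMod 2 := e.left.toAdd v

theorem val_one (v : V) : val 1 v = 0 := rfl

theorem val_mul (a b : Pairs) (v : V) : val (a * b) v = val a v + val b (act (up a.right⁻¹) v) := rfl

/-- The pairs which are standard automorphisms of the loop. -/
def aut : Subgroup Pairs where
  carrier := {e | ∀ u v, val e (u + v) = val e u + val e v +
    (sgn (act (up e.right⁻¹) u) (act (up e.right⁻¹) v) + sgn u v)}
  one_mem' u v := by
    show (0 : ZMod 2) = 0 + 0 + (sgn (act (up 1⁻¹) u) (act (up 1⁻¹) v) + sgn u v)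
    rw [inv_one, up_one, act_one, act_one]
    simp [CharTwo.add_self_eq_zero]
  mul_mem' {a b} ha hb := fun u v => by
    rw [val_mul, val_mul, val_mul, ha u v, act_add, hb, SemidirectProduct.mul_right, mul_inv_rev, up_mul,
      act_mul, act_mul]
    have two : (2 : ZMod 2) = 0 := rfl
    linear_combination sgn (act (up a.right⁻¹) u) (act (up a.right⁻¹) v) * two
  inv_mem' {a} ha := fun u v => by
    have h := ha (act (up a.right) u) (act (up a.right) v)
    rw [← act_add] at h
    simp only [← act_mul, ← up_mul, inv_mul_cancel, up_one, act_one] at h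
    have key : ∀ w, val a⁻¹ w = val a (act (up a.right) w) := fun w => by
      show -(val a (act (up (a.right⁻¹)⁻¹) w)) = _
      rw [inv_inv, CharTwo.neg_eq]
    rw [key, key, key, SemidirectProduct.inv_right, inv_inv, h]
    ring

theorem mem_aut {e : Pairs} : e ∈ aut ↔ ∀ u v, val e (u + v) = val e u + val e v +
    (sgn (act (up e.right⁻¹) u) (act (up e.right⁻¹) v) + sgn u v) := Iff.rfl

/-- The functional given by a word. -/
def pairing (w : GolayPt → ZMod 2) (v : V) : ZMod 2 := ∑ p, w p * wd v p

/-- The diagonal automorphism given by a word. -/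
def diag (w : GolayPt → ZMod 2) : ↥aut :=
  ⟨SemidirectProduct.inl (Multiplicative.ofAdd (pairing w)), fun u v => by
    show pairing w (u + v) = pairing w u + pairing w v + (sgn (act (up 1⁻¹) u) (act (up 1⁻¹) v) + sgn u v)
    rw [inv_one, up_one, act_one, act_one, CharTwo.add_self_eq_zero, add_zero]
    show ∑ p, w p * (wd u + wd v) p = _
    simp [pairing, mul_add, Finset.sum_add_distrib]⟩

theorem val_diag (w : GolayPt → ZMod 2) (v : V) : val (diag w : Pairs) v = pairing w v := rfl

theorem right_diag (w : GolayPt → ZMod 2) : (diag w : Pairs).right = 1 := rfl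

theorem aut_ext {a b : ↥aut} (h : ∀ v, val (a : Pairs) v = val (b : Pairs) v)
    (h' : (a : Pairs).right = (b : Pairs).right) : a = b :=
  Subtype.ext (SemidirectProduct.ext (Multiplicative.toAdd.injective (funext h)) h')

attribute [local irreducible] pairing sgn act

theorem diag_add (w w' : GolayPt → ZMod 2) : diag (w + w') = diag w * diag w' := by
  refine aut_ext (fun v => ?_) ?_
  · rw [Subgroup.coe_mul, val_mul, val_diag, val_diag, val_diag, right_diag, inv_one, up_one, act_one]
    simp [pairing, add_mul, Finset.sum_add_distrib]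
  · rw [Subgroup.coe_mul, SemidirectProduct.mul_right, right_diag, right_diag, right_diag, one_mul]

/-- The projection to `M23`. -/
def proj : ↥aut →* ↥Spor.M23 := SemidirectProduct.rightHom.comp aut.subtype

theorem proj_surjective : Function.Surjective proj := fun σ => by
  obtain ⟨f, hf⟩ := exists_lift (up σ⁻¹)
  exact ⟨⟨⟨Multiplicative.ofAdd f, σ⟩, hf⟩, rfl⟩

/-- The diagonal automorphism at the fixed point. -/
def centre : ↥aut := diag (Pi.single none 1)

theorem val_centre (v : V) : val (centre : Pairs) v = wd v none := by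
  rw [centre, val_diag]
  unfold pairing
  rw [Finset.sum_eq_single none (fun p _ hp => by rw [Pi.single_eq_of_ne hp, zero_mul]) (by simp),
    Pi.single_eq_same, one_mul]

theorem wd_act_none (σ : ↥Spor.M23) (v : V) : wd (act (up σ) v) none = wd v none := by
  unfold act
  show wd v ((σ : Equiv.Perm GolayPt)⁻¹ none) = _
  rw [← Subgroup.coe_inv, fix_none]

theorem right_centre : (centre : Pairs).right = 1 := rfl

theorem centre_comm (e : ↥aut) : e * centre = centre * e := by
  refine aut_ext (fun v => ?_) ?_
  · rw [Subgroup.coe_mul, Subgroup.coe_mul, val_mul, val_mul, val_centre, val_centre, right_centre, inv_one,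
      up_one, act_one, wd_act_none, add_comm]
  · rw [Subgroup.coe_mul, Subgroup.coe_mul, SemidirectProduct.mul_right, SemidirectProduct.mul_right,
      right_centre, one_mul, mul_one]

/-- The kernel of the extension. -/
def Z : Subgroup ↥aut := Subgroup.zpowers centre

instance Z_normal : Z.Normal := by
  refine ⟨fun x hx g => ?_⟩
  obtain ⟨k, rfl⟩ := Subgroup.mem_zpowers_iff.1 hx
  have h : Commute g (centre ^ k) := Commute.zpow_right (centre_comm g) k
  rw [h.eq, mul_inv_cancel_right]
  exact Subgroup.zpow_mem _ (Subgroup.mem_zpowers _) k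

theorem centre_sq : centre * centre = 1 := by
  rw [centre, ← diag_add]
  have e : (Pi.single none (1 : ZMod 2) : GolayPt → ZMod 2) + Pi.single none 1 = 0 :=
    funext fun p => CharTwo.add_self_eq_zero _
  rw [e]
  exact Subtype.ext (SemidirectProduct.ext (Multiplicative.toAdd.injective (funext fun v => by
    show pairing 0 v = 0
    simp [pairing])) rfl)

theorem mem_Z {x : ↥aut} (hx : x ∈ Z) : x = 1 ∨ x = centre := by
  obtain ⟨k, rfl⟩ := Subgroup.mem_zpowers_iff.1 hx
  obtain ⟨m, rfl⟩ | ⟨m, rfl⟩ := Int.even_or_odd k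
  · left; rw [← two_mul, zpow_mul, zpow_two, centre_sq, one_zpow]
  · right; rw [zpow_add, zpow_mul, zpow_two, centre_sq, one_zpow, one_mul, zpow_one]

/-- The extension. -/
abbrev Ext : Type := ↥aut ⧸ Z

/-- The map to `M23`. -/
def toM23 : Ext →* ↥Spor.M23 :=
  QuotientGroup.lift Z proj ((Subgroup.zpowers_le).2 (MonoidHom.mem_ker.2 rfl))

theorem toM23_surjective : Function.Surjective toM23 := fun σ => by
  obtain ⟨e, he⟩ := proj_surjective σ
  exact ⟨QuotientGroup.mk e, he⟩

/-- The cocode map. -/
noncomputable def cocode : (GolayPt → ZMod 2) →+ Additive ↥toM23.ker :=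
  AddMonoidHom.mk' (fun w => Additive.ofMul ⟨QuotientGroup.mk (diag w), MonoidHom.mem_ker.2 rfl⟩)
    fun w w' => by
      refine Additive.toMul.injective (Subtype.ext ?_)
      show QuotientGroup.mk (diag (w + w')) = QuotientGroup.mk (diag w) * QuotientGroup.mk (diag w')
      rw [diag_add]
      rfl

/-- A word orthogonal to the code lies in it. -/
theorem mem_of_pairing_eq_zero {w : GolayPt → ZMod 2} (h : ∀ v : V, pairing w v = 0) : w ∈ golayCode := by
  let L : (GolayPt → ZMod 2) →ₗ[ZMod 2] Module.Dual (ZMod 2) V :=
    ((Module.Dual.transpose (R := ZMod 2) golayCode.subtype).comp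
      (Fintype.linearCombination (ZMod 2) fun p : GolayPt => (LinearMap.proj p : _ →ₗ[ZMod 2] ZMod 2)))
  have hL : ∀ u v, L u v = pairing u v := fun u v => by
    simp [L, pairing, Module.Dual.transpose_apply, Fintype.linearCombination_apply, wd]
  have hsurj : Function.Surjective L := by
    intro φ
    obtain ⟨ψ, hψ⟩ := LinearMap.exists_extend φ
    refine ⟨fun p => ψ (Pi.single p 1), LinearMap.ext fun v => ?_⟩
    rw [hL, ← hψ]
    show pairing _ v = ψ (wd v)
    unfold pairing
    conv_rhs => rw [show wd v = ∑ p, wd v p • Pi.single p (1 : ZMod 2) from (pi_eq_sum_univ' (wd v))]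
    rw [map_sum]
    exact Finset.sum_congr rfl fun p _ => by rw [map_smul, smul_eq_mul, mul_comm]
  have hle : golayCode ≤ LinearMap.ker L := fun u hu => by
    refine LinearMap.mem_ker.2 (LinearMap.ext fun v => ?_)
    rw [hL]
    unfold pairing
    exact golay_self_orth hu v.2
  have hdim : Module.finrank (ZMod 2) (LinearMap.ker L) = 12 := by
    have h1 := LinearMap.finrank_range_add_finrank_ker L
    rw [LinearMap.range_eq_top.2 hsurj, finrank_top, Subspace.dual_finrank_eq, finrank_golayCode,
      Module.finrank_fintype_fun_eq_card] at h1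
    have : Fintype.card GolayPt = 24 := by simp
    omega
  rw [Submodule.eq_of_le_of_finrank_eq hle (by rw [hdim, finrank_golayCode]), LinearMap.mem_ker]
  exact LinearMap.ext fun v => (hL w v).trans (h v)

theorem diag_eq_one_iff (w : GolayPt → ZMod 2) : diag w = 1 ↔ w ∈ golayCode := by
  constructor
  · intro h
    exact mem_of_pairing_eq_zero fun v => congrFun (congrArg (fun e : ↥aut => (e : Pairs).left.toAdd) h) v
  · intro h
    refine Subtype.ext (SemidirectProduct.ext (Multiplicative.toAdd.injective (funext fun v => ?_)) rfl)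
    show val (diag w : Pairs) v = 0
    rw [val_diag]
    unfold pairing
    exact golay_self_orth h v.2

theorem cocode_eq_zero_iff (w : GolayPt → ZMod 2) :
    cocode w = 0 ↔ (w ∈ golayCode ∨ w + Pi.single none 1 ∈ golayCode) := by
  rw [show cocode w = 0 ↔ diag w ∈ Z from
    (Additive.toMul.injective.eq_iff).symm.trans (Subtype.ext_iff.trans (QuotientGroup.eq_one_iff _))]
  constructor
  · intro h
    rcases mem_Z h with h | h
    · exact Or.inl ((diag_eq_one_iff w).1 h)
    · exact Or.inr ((diag_eq_one_iff _).1 (by rw [diag_add, h, ← centre, centre_sq]))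
  · rintro (h | h)
    · rw [(diag_eq_one_iff w).2 h]; exact Z.one_mem
    · have := (diag_eq_one_iff _).2 h
      rw [diag_add, ← centre, mul_eq_one_iff_eq_inv] at this
      rw [this]
      exact Z.inv_mem (Subgroup.mem_zpowers _)

theorem cocode_surjective : Function.Surjective cocode := by
  intro n
  obtain ⟨⟨x, hx⟩, rfl⟩ := Additive.ofMul.surjective n
  obtain ⟨e, rfl⟩ := QuotientGroup.mk_surjective x
  have hright : (e : Pairs).right = 1 := MonoidHom.mem_ker.1 hx
  have hadd : ∀ u v, val (e : Pairs) (u + v) = val (e : Pairs) u + val (e : Pairs) v := fun u v => by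
    rw [e.2 u v, hright, inv_one, up_one, act_one, act_one, CharTwo.add_self_eq_zero, add_zero]
  obtain ⟨ψ, hψ⟩ := LinearMap.exists_extend ((AddMonoidHom.mk' _ hadd).toZModLinearMap 2)
  refine ⟨fun p => ψ (Pi.single p 1), Additive.toMul.injective (Subtype.ext ?_)⟩
  show QuotientGroup.mk (diag fun p => ψ (Pi.single p 1)) = _
  refine (congrArg QuotientGroup.mk (aut_ext (fun v => ?_) ((right_diag _).trans hright.symm))).trans ?_
  refine Eq.trans ?_ (LinearMap.congr_fun hψ v)
  show val (diag _ : Pairs) v = ψ (wd v)
  rw [val_diag]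
  unfold pairing
  conv_rhs => rw [show wd v = ∑ p, wd v p • Pi.single p (1 : ZMod 2) from (pi_eq_sum_univ' (wd v))]
  rw [map_sum]
  · exact Finset.sum_congr rfl fun p _ => by rw [map_smul, smul_eq_mul, mul_comm]
  · rfl

theorem cocode_conj (g : Ext) (w : GolayPt → ZMod 2) :
    ((cocode (w ∘ ⇑((toM23 g : Equiv.Perm GolayPt)⁻¹))).toMul : Ext) =
      g * ((cocode w).toMul : Ext) * g⁻¹ := by
  obtain ⟨e, rfl⟩ := QuotientGroup.mk_surjective g
  rw [eq_mul_inv_iff_mul_eq]
  have key : diag (w ∘ ⇑((e : Pairs).right : Equiv.Perm GolayPt)⁻¹) * e = e * diag w := by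
    refine aut_ext (fun v => ?_) ?_
    · rw [Subgroup.coe_mul, Subgroup.coe_mul, val_mul, val_mul, val_diag, val_diag, right_diag, inv_one, up_one,
        act_one, add_comm]
      congr 1
      unfold pairing act
      exact Fintype.sum_equiv ((e : Pairs).right : Equiv.Perm GolayPt)⁻¹ _ _ fun p => by
        simp [up, wd]
    · rw [Subgroup.coe_mul, Subgroup.coe_mul, SemidirectProduct.mul_right, SemidirectProduct.mul_right,
        right_diag, right_diag, one_mul, mul_one]
  exact congrArg QuotientGroup.mk key

end CfsgLib.Golay.CocodeExtension
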