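import Cfsg.Agent.Golay.CocodeExtension

/-!
The extension of `M23` by the cocode module does not split: two elements `g`, `h` of `M23` with `h³ = g h g`
cannot lift.
-/

set_option autoImplicit false
set_option maxRecDepth 20000

open scoped Pointwise

namespace CfsgLib.Golay.CocodeExtension

open Cfsg CfsgLib.Golay.Loop CfsgLib.Mathieu.Code

/-- An involution of `M23`. -/
def pG : Equiv.Perm GolayPt :=
  permOf 984508778830219929456605401657510068 984508778830219929456605401657510068 (by decide +kernel)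

/-- An element of order 8 of `M23`. -/
def pH : Equiv.Perm GolayPt :=
  permOf 956866394155084328056909540155003985 962625328837179553487612930115929808 (by decide +kernel)

theorem pG_mem : pG ∈ Spor.M23 :=
  ⟨mem_M24_iff.mpr (by decide +kernel), MulAction.mem_stabilizer_iff.mpr (by decide +kernel)⟩

theorem pH_mem : pH ∈ Spor.M23 :=
  ⟨mem_M24_iff.mpr (by decide +kernel), MulAction.mem_stabilizer_iff.mpr (by decide +kernel)⟩

/-- `pG` in `M23`. -/
def gG : ↥Spor.M23 := ⟨pG, pG_mem⟩

/-- `pH` in `M23`. -/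
def gH : ↥Spor.M23 := ⟨pH, pH_mem⟩

theorem rel_perm : ∀ p, (pH * pH * pH) p = (pG * pH * pG) p := by decide +kernel

theorem rel : gH * gH * gH = gG * gH * gG := Subtype.ext (Equiv.ext rel_perm)

/-- The test word. -/
def xw : GolayPt → ZMod 2 := wordOf (ofMask 36294)

theorem xw_mem : xw ∈ golayCode := mem_golayCode_iff.mpr (by decide +kernel)

/-- The test word as a code element. -/
def xV : V := ⟨xw, xw_mem⟩

theorem pts : ∀ p, xw (pH (pH (pH (pH p)))) = xw p ∧ xw (pG p) = xw (pH (pH (pH p))) ∧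
    xw (pH (pH (pH p))) = xw p + xw (pH p) + xw (pH (pH p)) := by decide +kernel

theorem xw_none : xw none = 0 := by decide +kernel

theorem tri_test : tri xw (fun p => xw (pH p)) (fun p => xw (pH (pH p))) = 1 := by decide +kernel

theorem wd_act_inv (σ : ↥Spor.M23) (x : V) (p : GolayPt) :
    wd (act (up σ⁻¹) x) p = wd x ((σ : Equiv.Perm GolayPt) p) := by
  show wd x (((σ⁻¹ : ↥Spor.M23) : Equiv.Perm GolayPt)⁻¹ p) = _
  rw [Subgroup.coe_inv, inv_inv]

attribute [local irreducible] sgn

/-- There is no complement. -/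
theorem no_complement (H : Subgroup Ext) (hH : H ⊓ toM23.ker = ⊥) : H ⊔ toM23.ker ≠ ⊤ := by
  intro hsup
  have hlift : ∀ σ : ↥Spor.M23, ∃ e : ↥aut, QuotientGroup.mk e ∈ H ∧ (e : Pairs).right = σ := by
    intro σ
    obtain ⟨x, hx⟩ := toM23_surjective σ
    obtain ⟨y, hy, z, hz, hyz⟩ := Subgroup.mem_sup_of_normal_right.1 (hsup ▸ Subgroup.mem_top x : x ∈ H ⊔ toM23.ker)
    obtain ⟨e, rfl⟩ := QuotientGroup.mk_surjective y
    refine ⟨e, hy, ?_⟩
    rw [← hx, ← hyz, map_mul, MonoidHom.mem_ker.1 hz, mul_one]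
    rfl
  obtain ⟨G, hG, hGr⟩ := hlift gG
  obtain ⟨K, hK, hKr⟩ := hlift gH
  have hmem : (QuotientGroup.mk ((G * K * G)⁻¹ * (K * K * K)) : Ext) ∈ H ⊓ toM23.ker := by
    refine ⟨?_, ?_⟩
    · simp only [QuotientGroup.mk_mul, QuotientGroup.mk_inv]
      exact H.mul_mem (H.inv_mem (H.mul_mem (H.mul_mem hG hK) hG)) (H.mul_mem (H.mul_mem hK hK) hK)
    · refine MonoidHom.mem_ker.2 ?_
      show proj ((G * K * G)⁻¹ * (K * K * K)) = 1
      have hpG : proj G = gG := hGr
      have hpK : proj K = gH := hKr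
      simp only [map_mul, map_inv, hpG, hpK, rel, inv_mul_cancel]
  rw [hH, Subgroup.mem_bot, QuotientGroup.eq_one_iff] at hmem
  have hval : val ((K * K * K : ↥aut) : Pairs) xV = val ((G * K * G : ↥aut) : Pairs) xV := by
    rcases mem_Z hmem with h | h
    · rw [inv_mul_eq_one] at h; rw [h]
    · rw [inv_mul_eq_iff_eq_mul] at h
      rw [h, Subgroup.coe_mul _ _ centre, val_mul, val_centre, wd_act_none,
        show wd xV none = 0 from xw_none, add_zero]
  simp only [Subgroup.coe_mul, val_mul, SemidirectProduct.mul_right, hGr, hKr, mul_inv_rev, up_mul, act_mul] at hval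
  set b := act (up gH⁻¹) xV with hb
  set c := act (up gH⁻¹) b with hc
  set d := act (up gH⁻¹) c with hd
  have ev : ∀ p, wd b p = xw (pH p) ∧ wd c p = xw (pH (pH p)) ∧ wd d p = xw (pH (pH (pH p))) := fun p =>
    ⟨by rw [hb, wd_act_inv]; rfl, by rw [hc, wd_act_inv, hb, wd_act_inv]; rfl,
      by rw [hd, wd_act_inv, hc, wd_act_inv, hb, wd_act_inv]; rfl⟩
  have hd0 : act (up gG⁻¹) xV = d := Subtype.ext (funext fun p => by
    show wd (act (up gG⁻¹) xV) p = wd d p
    rw [wd_act_inv, (ev p).2.2]; exact (pts p).2.1)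
  have hd1 : act (up gH⁻¹) d = xV := Subtype.ext (funext fun p => by
    show wd (act (up gH⁻¹) d) p = wd xV p
    rw [wd_act_inv]
    exact (ev _).2.2.trans (pts p).1)
  have hdsum : d = xV + b + c := Subtype.ext (funext fun p => by
    show wd d p = wd xV p + wd b p + wd c p
    rw [(ev p).1, (ev p).2.1, (ev p).2.2]; exact (pts p).2.2)
  rw [hd0, hd1] at hval
  have hf := K.2
  rw [mem_aut, hKr] at hf
  have hsum := chain_sum (up gH⁻¹) hf hdsum hb.symm hc.symm hd.symm hd1
  have htri : tri (wd xV) (wd b) (wd c) = 1 := by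
    rw [show wd b = fun p => xw (pH p) from funext fun p => (ev p).1,
      show wd c = fun p => xw (pH (pH p)) from funext fun p => (ev p).2.1]
    exact tri_test
  rw [htri] at hsum
  have h0 : (0 : ZMod 2) = 1 := by
    have two : (2 : ZMod 2) = 0 := rfl
    linear_combination hsum - hval + (-val (G : Pairs) xV - val (K : Pairs) d) * two
  exact zero_ne_one h0

end CfsgLib.Golay.CocodeExtension
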