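import Cfsg.Agent.Golay.Perm
import Mathlib.LinearAlgebra.Dimension.Free
import Mathlib.LinearAlgebra.FiniteDimensional.Basic

/-!
A cocycle of the Parker loop on the length-24 code: `sgn` is additive in the second variable, its
polarization in the first variable is the triple product `tri`, and its diagonal is a quarter of the weight.
-/

set_option autoImplicit false

open scoped Pointwise symmDiff

namespace CfsgLib.Golay.Loop

open Cfsg

/-- The code as a type. -/
abbrev V : Type := ↥(golayCode : Submodule (ZMod 2) (GolayPt → ZMod 2))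

/-- The word of a code element. -/
abbrev wd (x : V) : GolayPt → ZMod 2 := x.1

/-- Parity of the triple intersection. -/
def tri (x y z : GolayPt → ZMod 2) : ZMod 2 := ∑ p, x p * y p * z p

/-- Half the intersection, mod 2. -/
def half (x y : V) : ZMod 2 := ((support₂ (wd x) ∩ support₂ (wd y)).card / 2 : ℕ)

/-- A quarter of the weight, mod 2. -/
def qu (x : V) : ZMod 2 := ((support₂ (wd x)).card / 4 : ℕ)

theorem mem_supports (x : V) :
    support₂ (wd x) ∈ supports (golayCode : Set (GolayPt → ZMod 2)) := ⟨wd x, x.2, rfl⟩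

theorem tri_eq_card (x y z : GolayPt → ZMod 2) :
    tri x y z = (((support₂ x ∩ support₂ y) ∩ support₂ z).card : ZMod 2) := by
  have h : ∀ a b c : ZMod 2, a * b * c = if (a ≠ 0 ∧ b ≠ 0) ∧ c ≠ 0 then 1 else 0 := by decide
  simp only [tri, h, Finset.sum_boole]
  congr 2
  ext p
  simp [support₂, and_assoc]

theorem qu_add (x y : V) : qu (x + y) = qu x + qu y + half x y := by
  have h := card_symmDiff_add (support₂ (wd x)) (support₂ (wd y))
  rw [← support₂_add] at h
  obtain ⟨A, hA⟩ := four_dvd_card (mem_supports x)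
  obtain ⟨B, hB⟩ := four_dvd_card (mem_supports y)
  obtain ⟨S, hS⟩ := four_dvd_card (mem_supports (x + y))
  have hS' : (support₂ (wd x + wd y)).card = 4 * S := hS
  obtain ⟨C, hC⟩ := even_card_inter (mem_supports x) (mem_supports y)
  rw [hS', hA, hB, hC] at h
  unfold qu half
  rw [show support₂ (wd (x + y)) = support₂ (wd x + wd y) from rfl, hS', hA, hB, hC,
    Nat.mul_div_cancel_left _ (by norm_num), Nat.mul_div_cancel_left _ (by norm_num),
    Nat.mul_div_cancel_left _ (by norm_num), show (C + C) / 2 = C by omega]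
  have h2 : (S : ZMod 2) + C = A + B := by exact_mod_cast congrArg (Nat.cast (R := ZMod 2)) (show S + C = A + B by omega)
  revert h2
  generalize (S : ZMod 2) = s, (C : ZMod 2) = c, (A : ZMod 2) = a, (B : ZMod 2) = b
  revert s c a b
  decide

theorem half_comm (x y : V) : half x y = half y x := by rw [half, half, Finset.inter_comm]

theorem half_add_right (x y z : V) : half x (y + z) = half x y + half x z + tri (wd x) (wd y) (wd z) := by
  have h := card_symmDiff_add (support₂ (wd x) ∩ support₂ (wd y)) (support₂ (wd x) ∩ support₂ (wd z))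
  rw [show (support₂ (wd x) ∩ support₂ (wd y)) ∆ (support₂ (wd x) ∩ support₂ (wd z)) =
      support₂ (wd x) ∩ support₂ (wd y + wd z) by
        rw [support₂_add]; ext p; simp [Finset.mem_symmDiff]; tauto,
    show (support₂ (wd x) ∩ support₂ (wd y)) ∩ (support₂ (wd x) ∩ support₂ (wd z)) =
      (support₂ (wd x) ∩ support₂ (wd y)) ∩ support₂ (wd z) by ext p; simp; tauto] at h
  obtain ⟨A, hA⟩ := even_card_inter (mem_supports x) (mem_supports y)
  obtain ⟨B, hB⟩ := even_card_inter (mem_supports x) (mem_supports z)
  obtain ⟨S, hS⟩ := even_card_inter (mem_supports x) (mem_supports (y + z))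
  have hS' : (support₂ (wd x) ∩ support₂ (wd y + wd z)).card = S + S := hS
  rw [hS', hA, hB] at h
  rw [tri_eq_card]
  unfold half
  rw [show support₂ (wd (y + z)) = support₂ (wd y + wd z) from rfl, hS', hA, hB,
    show (A + A) / 2 = A by omega, show (B + B) / 2 = B by omega, show (S + S) / 2 = S by omega]
  set T := (support₂ (wd x) ∩ support₂ (wd y) ∩ support₂ (wd z)).card
  have h2 : (S : ZMod 2) + T = A + B := by exact_mod_cast congrArg (Nat.cast (R := ZMod 2)) (show S + T = A + B by omega)
  revert h2
  generalize (S : ZMod 2) = s, (T : ZMod 2) = c, (A : ZMod 2) = a, (B : ZMod 2) = b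
  revert s c a b
  decide

theorem tri_comm (x y z : GolayPt → ZMod 2) : tri x y z = tri y x z :=
  Finset.sum_congr rfl fun _ _ => by ring

theorem tri_rot (x y z : GolayPt → ZMod 2) : tri x y z = tri y z x :=
  Finset.sum_congr rfl fun _ _ => by ring

theorem tri_add_right (x y z z' : GolayPt → ZMod 2) : tri x y (z + z') = tri x y z + tri x y z' := by
  simp [tri, mul_add, Finset.sum_add_distrib]

theorem tri_add_left (x x' y z : GolayPt → ZMod 2) : tri (x + x') y z = tri x y z + tri x' y z := by
  simp [tri, add_mul, Finset.sum_add_distrib]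

theorem tri_add_mid (x y y' z : GolayPt → ZMod 2) : tri x (y + y') z = tri x y z + tri x y' z := by
  simp [tri, mul_add, add_mul, Finset.sum_add_distrib]

theorem tri_self_left (x y : V) : tri (wd x) (wd x) (wd y) = 0 := by
  rw [← golay_self_orth x.2 y.2]
  refine Finset.sum_congr rfl fun p _ => ?_
  show x.1 p * x.1 p * y.1 p = x.1 p * y.1 p
  generalize x.1 p = a, y.1 p = b
  revert a b
  decide

theorem tri_self_right (x y : V) : tri (wd x) (wd y) (wd y) = 0 := by
  rw [tri_rot, tri_self_left]

theorem tri_self_outer (x y : V) : tri (wd x) (wd y) (wd x) = 0 := by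
  rw [tri_rot, tri_rot, tri_self_left]

/-- A basis of the code. -/
noncomputable def bas : Module.Basis (Fin (Module.finrank (ZMod 2) V)) (ZMod 2) V :=
  Module.finBasis (ZMod 2) V

/-- A coordinate in the basis. -/
noncomputable abbrev crd (x : V) (i : Fin (Module.finrank (ZMod 2) V)) : ZMod 2 := bas.repr x i

theorem crd_add (x y : V) (i : Fin (Module.finrank (ZMod 2) V)) : crd (x + y) i = crd x i + crd y i := by
  simp [crd]

theorem crd_bas (k i : Fin (Module.finrank (ZMod 2) V)) : crd (bas k) i = if k = i then 1 else 0 := by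
  simp [crd, Finsupp.single_apply]

theorem additive_eq_zero {f : V → ZMod 2} (hadd : ∀ x y, f (x + y) = f x + f y)
    (h : ∀ i, f (bas i) = 0) (x : V) : f x = 0 := by
  have h1 : (AddMonoidHom.mk' f hadd).toZModLinearMap 2 = 0 :=
    bas.ext fun i => by simpa using h i
  simpa using LinearMap.congr_fun h1 x

theorem biadd_eq_zero {f : V → V → ZMod 2} (h1 : ∀ x y z, f (x + y) z = f x z + f y z)
    (h2 : ∀ x y z, f x (y + z) = f x y + f x z) (h : ∀ i j, f (bas i) (bas j) = 0) (x y : V) :
    f x y = 0 :=
  additive_eq_zero (f := fun x => f x y) (fun a b => h1 a b y)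
    (fun i => additive_eq_zero (f := f (bas i)) (h2 _) (h i) y) x

/-- Expansion of a bi-additive function in coordinates. -/
theorem biadd_expand {f : V → V → ZMod 2} (h1 : ∀ x y z, f (x + y) z = f x z + f y z)
    (h2 : ∀ x y z, f x (y + z) = f x y + f x z) (x y : V) :
    f x y = ∑ i, ∑ j, crd x i * crd y j * f (bas i) (bas j) := by
  have h0 := biadd_eq_zero (f := fun u v => f u v + ∑ i, ∑ j, crd u i * crd v j * f (bas i) (bas j))
    (fun a b c => by simp only [h1, crd_add, add_mul, Finset.sum_add_distrib]; abel)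
    (fun a b c => by simp only [h2, crd_add, mul_add, add_mul, Finset.sum_add_distrib]; abel)
    (fun k l => by
      simp only [crd_bas, ite_mul, one_mul, zero_mul, Finset.sum_ite_eq, Finset.mem_univ, if_true,
        mul_ite, mul_zero, mul_one]
      exact CharTwo.add_self_eq_zero _) x y
  exact CharTwo.add_eq_zero.1 h0

/-- An upper triangular half of an alternating bi-additive function gives a quadratic function. -/
theorem exists_quadratic {D : V → V → ZMod 2} (h1 : ∀ x y z, D (x + y) z = D x z + D y z)
    (h2 : ∀ x y z, D x (y + z) = D x y + D x z) (h0 : ∀ x, D x x = 0) :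
    ∃ f : V → ZMod 2, ∀ x y, f (x + y) = f x + f y + D x y := by
  classical
  let A := fun i j : Fin (Module.finrank (ZMod 2) V) => if i < j then D (bas i) (bas j) else 0
  refine ⟨fun x => ∑ i, ∑ j, crd x i * crd x j * A i j, fun x y => ?_⟩
  have hA : ∀ i j, A i j + A j i = D (bas i) (bas j) := by
    intro i j
    rcases lt_trichotomy i j with h | h | h
    · simp [A, h, h.not_gt]
    · subst h; simp [A, h0]
    · have hs := h0 (bas i + bas j)
      rw [h1, h2, h2, h0, h0, zero_add, add_zero] at hs
      simp [A, h, h.not_gt, CharTwo.add_eq_zero.1 hs]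
  have hs : ∑ i, ∑ j, crd y i * crd x j * A i j = ∑ i, ∑ j, crd x i * crd y j * A j i := by
    rw [Finset.sum_comm]
    exact Finset.sum_congr rfl fun i _ => Finset.sum_congr rfl fun j _ => by ring
  rw [biadd_expand h1 h2 x y]
  simp only [← hA, crd_add, mul_add, add_mul, Finset.sum_add_distrib, hs]
  abel

/-- The upper triangular half of the triple product. -/
noncomputable def upTri (i j : Fin (Module.finrank (ZMod 2) V)) (y : V) : ZMod 2 :=
  if i < j then tri (wd (bas i)) (wd (bas j)) (wd y) else 0

/-- The linear part of the cocycle. -/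
noncomputable def linPart (i : Fin (Module.finrank (ZMod 2) V)) : V →ₗ[ZMod 2] ZMod 2 :=
  bas.constr (ZMod 2) fun j => if i < j then half (bas i) (bas j) else if i = j then qu (bas i) else 0

/-- The cocycle. -/
noncomputable def sgn (x y : V) : ZMod 2 :=
  (∑ i, ∑ j, crd x i * crd x j * upTri i j y) + ∑ i, crd x i * linPart i y

theorem sgn_add_right (x y z : V) : sgn x (y + z) = sgn x y + sgn x z := by
  have h : ∀ i j, upTri i j (y + z) = upTri i j y + upTri i j z := fun i j => by
    unfold upTri
    split_ifs
    · exact tri_add_right _ _ _ _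
    · rw [add_zero]
  simp only [sgn, h, map_add, mul_add, Finset.sum_add_distrib]
  abel

theorem sgn_add_left (x x' y : V) :
    sgn (x + x') y = sgn x y + sgn x' y + tri (wd x) (wd x') (wd y) := by
  have hu : ∀ i j, upTri i j y + upTri j i y = tri (wd (bas i)) (wd (bas j)) (wd y) := by
    intro i j
    rcases lt_trichotomy i j with h | h | h
    · simp [upTri, h, h.not_gt]
    · subst h; simp [upTri, tri_self_left]
    · simp [upTri, h, h.not_gt, tri_comm]
  have hs : ∑ i, ∑ j, crd x' i * crd x j * upTri i j y = ∑ i, ∑ j, crd x i * crd x' j * upTri j i y := by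
    rw [Finset.sum_comm]
    exact Finset.sum_congr rfl fun i _ => Finset.sum_congr rfl fun j _ => by ring
  rw [biadd_expand (f := fun a b => tri (wd a) (wd b) (wd y))
    (fun a b c => tri_add_left _ _ _ _) (fun a b c => tri_add_mid _ _ _ _) x x']
  simp only [sgn, ← hu, crd_add, mul_add, add_mul, Finset.sum_add_distrib, hs]
  abel

theorem sgn_bas (k : Fin (Module.finrank (ZMod 2) V)) (y : V) : sgn (bas k) y = linPart k y := by
  simp [sgn, crd_bas, upTri, ite_mul]
  refine Finset.sum_eq_zero fun i _ => Finset.sum_eq_zero fun j _ => ?_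
  split_ifs with h1 h2 h3 <;> simp_all

theorem half_add_left (x y z : V) : half (x + y) z = half x z + half y z + tri (wd x) (wd y) (wd z) := by
  rw [half_comm, half_add_right, half_comm z x, half_comm z y, tri_rot]

theorem sgn_swap (x y : V) : sgn x y + sgn y x = half x y := by
  refine CharTwo.add_eq_zero.1 (biadd_eq_zero (f := fun x y => sgn x y + sgn y x + half x y) ?_ ?_ ?_ x y)
  · intro a b c
    rw [sgn_add_right, sgn_add_left, half_add_left]
    linear_combination CharTwo.add_self_eq_zero (tri (wd a) (wd b) (wd c))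
  · intro a b c
    rw [sgn_add_right, sgn_add_left, half_add_right, tri_rot (wd a) (wd b) (wd c)]
    linear_combination CharTwo.add_self_eq_zero (tri (wd b) (wd c) (wd a))
  · intro i j
    simp only [sgn_bas, linPart, Module.Basis.constr_basis]
    rcases lt_trichotomy i j with h | h | h
    · simp [h, h.not_gt, h.ne', CharTwo.add_self_eq_zero]
    · subst h
      have : half (bas i) (bas i) = 0 := by
        obtain ⟨A, hA⟩ := four_dvd_card (mem_supports (bas i))
        rw [half, Finset.inter_self, hA, show 4 * A / 2 = 2 * A by omega, Nat.cast_mul]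
        exact zero_mul _
      simp [this, CharTwo.add_self_eq_zero]
    · simp [h, h.not_gt, h.ne', half_comm (bas j) (bas i), CharTwo.add_self_eq_zero]

theorem sgn_self (x : V) : sgn x x = qu x := by
  refine CharTwo.add_eq_zero.1 (additive_eq_zero (f := fun x => sgn x x + qu x) (fun a b => ?_) ?_ x)
  · rw [sgn_add_right, sgn_add_left, sgn_add_left, qu_add, tri_self_outer, tri_self_right]
    linear_combination sgn_swap a b + CharTwo.add_self_eq_zero (half a b)
  · intro i
    rw [sgn_bas, linPart, Module.Basis.constr_basis]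
    simp [CharTwo.add_self_eq_zero]

theorem support₂_comp (σ : Equiv.Perm GolayPt) (w : GolayPt → ZMod 2) :
    support₂ (w ∘ ⇑σ⁻¹) = σ • support₂ w := by
  ext p
  simp [support₂, ← Finset.inv_smul_mem_iff, Equiv.Perm.smul_def]

theorem comp_mem {σ : Equiv.Perm GolayPt} (hσ : σ ∈ M24) {w : GolayPt → ZMod 2} (hw : w ∈ golayCode) :
    w ∘ ⇑σ⁻¹ ∈ golayCode := by
  have h := smul_mem_supports hσ (⟨w, hw, rfl⟩ : support₂ w ∈ supports _)
  rwa [← support₂_comp, mem_supports_iff_wordOf, wordOf_support₂] at h

/-- The action of `M24` on the code. -/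
def act (σ : ↥M24) (x : V) : V := ⟨wd x ∘ ⇑(σ : Equiv.Perm GolayPt)⁻¹, comp_mem σ.2 x.2⟩

theorem act_add (σ : ↥M24) (x y : V) : act σ (x + y) = act σ x + act σ y := rfl

theorem act_one (x : V) : act 1 x = x := Subtype.ext (funext fun p => by simp [act, wd])

theorem act_mul (σ τ : ↥M24) (x : V) : act (σ * τ) x = act σ (act τ x) :=
  Subtype.ext (funext fun p => by simp [act, wd])

theorem act_zero (σ : ↥M24) : act σ 0 = 0 := rfl

theorem qu_act (σ : ↥M24) (x : V) : qu (act σ x) = qu x := by
  show (((support₂ (wd x ∘ ⇑(σ : Equiv.Perm GolayPt)⁻¹)).card / 4 : ℕ) : ZMod 2) = qu x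
  rw [support₂_comp, Finset.card_smul_finset]
  rfl

theorem half_act (σ : ↥M24) (x y : V) : half (act σ x) (act σ y) = half x y := by
  show (((support₂ (wd x ∘ ⇑(σ : Equiv.Perm GolayPt)⁻¹) ∩
    support₂ (wd y ∘ ⇑(σ : Equiv.Perm GolayPt)⁻¹)).card / 2 : ℕ) : ZMod 2) = half x y
  rw [support₂_comp, support₂_comp, ← Finset.smul_finset_inter, Finset.card_smul_finset]
  rfl

theorem tri_act (σ : ↥M24) (x y z : V) :
    tri (wd (act σ x)) (wd (act σ y)) (wd (act σ z)) = tri (wd x) (wd y) (wd z) :=
  Fintype.sum_equiv (σ : Equiv.Perm GolayPt)⁻¹ _ _ fun p => rfl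

/-- Every element of `M24` lifts to an automorphism of the loop. -/
theorem exists_lift (σ : ↥M24) :
    ∃ f : V → ZMod 2, ∀ x y, f (x + y) = f x + f y + (sgn (act σ x) (act σ y) + sgn x y) := by
  refine exists_quadratic (fun x y z => ?_) (fun x y z => ?_) fun x => ?_
  · rw [act_add, sgn_add_left, sgn_add_left, tri_act]
    linear_combination CharTwo.add_self_eq_zero (tri (wd x) (wd y) (wd z))
  · rw [act_add, sgn_add_right, sgn_add_right]
    abel
  · rw [sgn_self, sgn_self, qu_act, CharTwo.add_self_eq_zero]

theorem sgn_zero : sgn 0 0 = 0 := by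
  have h := sgn_add_right 0 0 0
  rwa [add_zero, left_eq_add] at h

/-- The invariant obstruction: the sum of a lift over four points in a chain. -/
theorem chain_sum (σ : ↥M24) {f : V → ZMod 2}
    (hf : ∀ x y, f (x + y) = f x + f y + (sgn (act σ x) (act σ y) + sgn x y)) {a b c d : V}
    (hd : d = a + b + c) (hb : act σ a = b) (hc : act σ b = c) (hd' : act σ c = d) (ha : act σ d = a) :
    f a + f b + f c + f d = tri (wd a) (wd b) (wd c) := by
  have hf0 : f 0 = 0 := by
    have h := hf 0 0
    rw [add_zero, act_zero, sgn_zero, add_zero, add_zero] at h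
    rwa [left_eq_add] at h
  have hzero : a + b + (c + d) = 0 := by
    rw [hd]
    ext p
    show a.1 p + b.1 p + (c.1 p + (a.1 p + b.1 p + c.1 p)) = 0
    generalize a.1 p = x, b.1 p = y, c.1 p = z
    revert x y z
    decide
  have hw : c + d = a + b := by
    rw [hd]
    ext p
    show c.1 p + (a.1 p + b.1 p + c.1 p) = a.1 p + b.1 p
    generalize a.1 p = x, b.1 p = y, c.1 p = z
    revert x y z
    decide
  have h1 := hf (a + b) (c + d)
  rw [hzero, hf0, hf a b, hf c d, hw, sgn_self, sgn_self, qu_act, CharTwo.add_self_eq_zero, add_zero,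
    hb, hc, hd', ha] at h1
  have h2 : sgn d b = sgn a b + sgn b b + sgn c b + tri (wd a) (wd c) (wd b) := by
    rw [hd, sgn_add_left, sgn_add_left, tri_self_right]
    show _ + tri (wd a + wd b) (wd c) (wd b) = _
    rw [tri_add_left, tri_self_outer]
    abel
  have h3 : sgn d a + sgn d c = sgn d b + sgn d d := by
    rw [← sgn_add_right, ← sgn_add_right]
    congr 1
    rw [hd]
    ext p
    show a.1 p + c.1 p = b.1 p + (a.1 p + b.1 p + c.1 p)
    generalize a.1 p = x, b.1 p = y, c.1 p = z
    revert x y z
    decide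
  have h4 : qu d = qu b := by rw [← hd', ← hc, qu_act, qu_act]
  have h5 : half c d = half b c := by rw [← hd', ← hc, half_act]
  have h6 : tri (wd a) (wd c) (wd b) = tri (wd a) (wd b) (wd c) := by rw [tri_rot, tri_comm, tri_rot (wd a) (wd b)]
  have two : (2 : ZMod 2) = 0 := rfl
  linear_combination -h1 + h3 + h2 + sgn_self d + sgn_swap b c + sgn_swap c d + sgn_self b + h4 + h5 + h6 +
    (half b c + qu b - sgn b c - sgn d a - sgn c d - sgn d c) * two

end CfsgLib.Golay.Loop
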